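import Groth.Agent.FixedSmooth.Transporter
import Groth.Agent.FixedSmooth.Normalizer
import Groth.Agent.S0412
import Groth.Prelude.Def_TwC
/-!
Homomorphisms and subgroups of multiplicative type that are geometrically conjugate are conjugate etale locally.
-/

set_option autoImplicit false
set_option backward.isDefEq.respectTransparency false
set_option backward.isDefEq.respectTransparency.types false
set_option linter.style.haveILetI false

universe u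

open CategoryTheory CategoryTheory.Limits MonoidalCategory CartesianMonoidalCategory MonObj AlgebraicGeometry

noncomputable section

namespace Groth.Agent.ConjLocal

open FixedSmooth WeilClosedLib

variable {S : Scheme.{u}}

theorem range_subset_of_point {P : Scheme.{u}} (q : P ⟶ S) {T : Over S} (t : Over.mk q ⟶ T) :
    Set.range q ⊆ Set.range T.hom := by
  rintro _ ⟨z, rfl⟩
  exact ⟨t.left z, (Scheme.Hom.comp_apply _ _ _).symm.trans (congrArg (fun m : P ⟶ S => m z) (Over.w t))⟩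

theorem mem_range_geomPt (s : S) : s ∈ Set.range (Red.geomPt s) := by
  obtain ⟨z⟩ : Nonempty (Spec (CommRingCat.of (AlgebraicClosure (S.residueField s)))) := inferInstance
  exact ⟨z, (Scheme.Hom.comp_apply _ _ _).trans (Scheme.fromSpecResidueField_apply s _)⟩

/-- A smooth scheme with geometric points over all points has sections etale locally. -/
theorem exists_etale_section_at {T : Over S} [Smooth T.hom] (s : S)
    (h : Nonempty (Over.mk (Red.geomPt s) ⟶ T)) :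
    ∃ (S' : Scheme.{u}) (f : S' ⟶ S), Etale f ∧ s ∈ Set.range f.base ∧
      Nonempty ((Over.map f).obj (𝟙_ (Over S')) ⟶ T) := by
  obtain ⟨t⟩ := h
  have hs : s ∈ Set.range T.hom := range_subset_of_point _ t (mem_range_geomPt s)
  obtain ⟨S', f, s', hf, hfs, k, hk⟩ := S0412.result T.hom s hs
  exact ⟨S', f, hf, ⟨s', hfs⟩, ⟨Over.homMk k (by
    show k ≫ T.hom = 𝟙 _ ≫ f
    rw [hk, Category.id_comp])⟩⟩

/-- A smooth scheme with geometric points over all points has sections etale locally. -/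
theorem exists_etale_sections {T : Over S} [Smooth T.hom]
    (h : ∀ s : S, Nonempty (Over.mk (Red.geomPt s) ⟶ T)) (s : S) :
    ∃ (S' : Scheme.{u}) (f : S' ⟶ S), Etale f ∧ s ∈ Set.range f.base ∧
      Nonempty ((Over.map f).obj (𝟙_ (Over S')) ⟶ T) :=
  exists_etale_section_at s (h s)

variable {H G : Over S} [GrpObj H] [GrpObj G]

/-- Geometrically conjugate homomorphisms are conjugate etale locally. -/
theorem exists_conj_hom (hH : SGA3x.IsMultTypeFT H) [Smooth G.hom] [IsAffineHom G.hom]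
    (u₁ u₂ : H ⟶ G) [IsMonHom u₁] [IsMonHom u₂]
    (hgeom : ∀ s : S, ∃ g : Over.mk (Red.geomPt s) ⟶ G, ∀ (X : Over S) (p : X ⟶ Over.mk (Red.geomPt s)) (h : X ⟶ H),
      h ≫ u₂ = (p ≫ g) * (h ≫ u₁) * (p ≫ g)⁻¹) (s : S) :
    ∃ (S' : Scheme.{u}) (f : S' ⟶ S), Etale f ∧ s ∈ Set.range f.base ∧ ∃ g : 𝟙_ (Over S') ⟶ Red.bc f G,
      ∀ (X : Over S') (h : X ⟶ Red.bc f H),
        h ≫ (Over.pullback f).map u₂ = (toUnit X ≫ g) * (h ≫ (Over.pullback f).map u₁) * (toUnit X ≫ g)⁻¹ := by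
  obtain ⟨T, j, -, hs, hrep⟩ := exists_smooth_transporter (.of_isMultTypeFT hH) u₁ u₂
  haveI := hs
  obtain ⟨S', f, hf, hsf, ⟨k⟩⟩ := exists_etale_sections (T := T) (fun s => by
    obtain ⟨g, hg⟩ := hgeom s
    obtain ⟨t, -⟩ := (hrep _ g).2 fun X' x h => (hg X' x h).symm
    exact ⟨t⟩) s
  refine ⟨S', f, hf, hsf, adjEquiv f G _ (k ≫ j), fun X h => ?_⟩
  have h1 := (hrep _ (k ≫ j)).1 ⟨k, rfl⟩ _ ((Over.map f).map (toUnit X)) ((adjEquiv f H X).symm h)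
  have h2 := congrArg (adjEquiv f G X) h1
  rw [map_mul, map_mul, map_inv, adjEquiv_nat, adjEquiv_comp (A := H) f u₁, adjEquiv_comp (A := H) f u₂,
    MulEquiv.apply_symm_apply] at h2
  exact h2.symm

variable {H₁ H₂ : Over S} [GrpObj H₁] [GrpObj H₂]

/-- Geometrically conjugate subgroups are conjugate etale locally. -/
theorem exists_conj_subgroup_at (h₁ : SGA3x.IsMultTypeFT H₁) (h₂ : SGA3x.IsMultTypeFT H₂) [Smooth G.hom] [IsAffineHom G.hom]
    (i₁ : H₁ ⟶ G) [IsMonHom i₁] [Mono i₁] (i₂ : H₂ ⟶ G) [IsMonHom i₂] [Mono i₂]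
    (s : S) (hgeom : ∃ g : Over.mk (Red.geomPt s) ⟶ G, ∀ (X : Over S) (p : X ⟶ Over.mk (Red.geomPt s)),
      (∀ a : X ⟶ H₁, ∃ b : X ⟶ H₂, (p ≫ g) * (a ≫ i₁) * (p ≫ g)⁻¹ = b ≫ i₂) ∧
      (∀ b : X ⟶ H₂, ∃ a : X ⟶ H₁, (p ≫ g)⁻¹ * (b ≫ i₂) * (p ≫ g) = a ≫ i₁)) :
    ∃ (S' : Scheme.{u}) (f : S' ⟶ S), Etale f ∧ s ∈ Set.range f.base ∧ ∃ g : 𝟙_ (Over S') ⟶ Red.bc f G,
      SGA3x.ConjBy ((Over.pullback f).map i₁) ((Over.pullback f).map i₂) g := by
  obtain ⟨T, j, -, hs, hrep⟩ := exists_smooth_conj (.of_isMultTypeFT h₁) (.of_isMultTypeFT h₂)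
    (locallyOfFinitePresentation_of_isMultTypeFT h₁) (locallyOfFinitePresentation_of_isMultTypeFT h₂) i₁ i₂
  haveI := hs
  obtain ⟨S', f, hf, hsf, ⟨k⟩⟩ := exists_etale_section_at (T := T) s (by
    obtain ⟨g, hg⟩ := hgeom
    obtain ⟨t, -⟩ := (hrep _ g).2 ((contain_pair_iff i₁ i₂ g).2 hg)
    exact ⟨t⟩)
  obtain ⟨hc₁, hc₂⟩ := (hrep _ (k ≫ j)).1 ⟨k, rfl⟩
  let g := adjEquiv f G (𝟙_ (Over S')) (k ≫ j)
  have hd₁ := contain_adj f i₁ i₂ _ hc₁
  have hd₂ := contain_adj f i₂ i₁ _ hc₂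
  rw [map_inv] at hd₂
  obtain ⟨h, hh⟩ := hd₁ _ (toUnit (Red.bc f H₁)) (𝟙 _)
  obtain ⟨h', hh'⟩ := hd₂ _ (toUnit (Red.bc f H₂)) (𝟙 _)
  rw [Category.id_comp] at hh hh'
  rw [GrpObj.comp_inv, inv_inv] at hh'
  haveI : Mono ((Over.pullback f).map i₁) := Functor.map_mono _ _
  haveI : Mono ((Over.pullback f).map i₂) := Functor.map_mono _ _
  have e₁ : h ≫ h' = 𝟙 _ := by
    rw [← cancel_mono ((Over.pullback f).map i₁), Category.assoc, Category.id_comp, ← hh', MonObj.comp_mul,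
      MonObj.comp_mul, GrpObj.comp_inv, ← Category.assoc, comp_toUnit, ← hh]
    simp [_root_.mul_assoc]
  have e₂ : h' ≫ h = 𝟙 _ := by
    rw [← cancel_mono ((Over.pullback f).map i₂), Category.assoc, Category.id_comp, ← hh, MonObj.comp_mul,
      MonObj.comp_mul, GrpObj.comp_inv, ← Category.assoc, comp_toUnit, ← hh']
    simp [_root_.mul_assoc]
  exact ⟨S', f, hf, hsf, g, ⟨h, h', e₁, e₂⟩, hh⟩

/-- Geometrically conjugate subgroups are conjugate etale locally. -/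
theorem exists_conj_subgroup (h₁ : SGA3x.IsMultTypeFT H₁) (h₂ : SGA3x.IsMultTypeFT H₂) [Smooth G.hom] [IsAffineHom G.hom]
    (i₁ : H₁ ⟶ G) [IsMonHom i₁] [Mono i₁] (i₂ : H₂ ⟶ G) [IsMonHom i₂] [Mono i₂]
    (hgeom : ∀ s : S, ∃ g : Over.mk (Red.geomPt s) ⟶ G, ∀ (X : Over S) (p : X ⟶ Over.mk (Red.geomPt s)),
      (∀ a : X ⟶ H₁, ∃ b : X ⟶ H₂, (p ≫ g) * (a ≫ i₁) * (p ≫ g)⁻¹ = b ≫ i₂) ∧
      (∀ b : X ⟶ H₂, ∃ a : X ⟶ H₁, (p ≫ g)⁻¹ * (b ≫ i₂) * (p ≫ g) = a ≫ i₁)) (s : S) :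
    ∃ (S' : Scheme.{u}) (f : S' ⟶ S), Etale f ∧ s ∈ Set.range f.base ∧ ∃ g : 𝟙_ (Over S') ⟶ Red.bc f G,
      SGA3x.ConjBy ((Over.pullback f).map i₁) ((Over.pullback f).map i₂) g :=
  exists_conj_subgroup_at h₁ h₂ i₁ i₂ s (hgeom s)

end Groth.Agent.ConjLocal
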